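import Groth.Prelude.Def_Pi1
import Mathlib.AlgebraicGeometry.Morphisms.Integral
import Mathlib.AlgebraicGeometry.Morphisms.Separated
import Mathlib.AlgebraicGeometry.FunctionField
import Mathlib.RingTheory.LocalProperties.IntegrallyClosed

/-!
# Rational sections of integral morphisms to normal schemes extend
-/

set_option autoImplicit false

universe u

open CategoryTheory CategoryTheory.Limits AlgebraicGeometry

namespace Groth.Agent.NormalSect

/-- Sections over an affine open of an integral normal scheme form an integrally closed domain. -/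
theorem isIntegrallyClosed_section {X : Scheme.{u}} [IsIntegral X] (hX : Pi1.IsNormalScheme X)
    {V : X.Opens} (hV : IsAffineOpen V) [Nonempty V] : IsIntegrallyClosed Γ(X, V) := by
  haveI : IsDomain Γ(X, V) := inferInstance
  refine IsIntegrallyClosed.of_localization_maximal fun p _ hp => ?_
  letI : Algebra Γ(X, V) (X.presheaf.stalk (hV.fromSpec ⟨p, hp.isPrime⟩)) :=
    TopCat.Presheaf.algebra_section_stalk X.presheaf ⟨hV.fromSpec ⟨p, hp.isPrime⟩, by
      rw [← SetLike.mem_coe, ← hV.range_fromSpec]; exact ⟨_, rfl⟩⟩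
  have : IsLocalization.AtPrime (X.presheaf.stalk (hV.fromSpec ⟨p, hp.isPrime⟩)) p :=
    hV.isLocalization_stalk' ⟨p, hp.isPrime⟩ (by rw [← SetLike.mem_coe, ← hV.range_fromSpec]; exact ⟨_, rfl⟩)
  haveI := (hX (hV.fromSpec ⟨p, hp.isPrime⟩)).2
  exact IsIntegrallyClosed.of_equiv
    (IsLocalization.algEquiv p.primeCompl (X.presheaf.stalk (hV.fromSpec ⟨p, hp.isPrime⟩))
      (Localization.AtPrime p)).toRingEquiv

variable {X X' : Scheme.{u}}

/-- The generic point of `X` inside a nonempty open subscheme. -/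
noncomputable def genLift [IsIntegral X] {P : Scheme.{u}} (j : P ⟶ X) [IsOpenImmersion j] [hP : Nonempty P] :
    Spec X.functionField ⟶ P :=
  IsOpenImmersion.lift j (X.fromSpecStalk (genericPoint X)) (by
    rw [Scheme.range_fromSpecStalk]
    intro y (hy : y ⤳ genericPoint X)
    have hη : genericPoint X ∈ Set.range j :=
      ((genericPoint_spec X).mem_open_set_iff j.isOpenEmbedding.isOpen_range).mpr
        (by simp [Set.range_nonempty])
    exact hy.mem_open j.isOpenEmbedding.isOpen_range hη)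

@[reassoc]
theorem genLift_fac [IsIntegral X] {P : Scheme.{u}} (j : P ⟶ X) [IsOpenImmersion j] [Nonempty P] :
    genLift j ≫ j = X.fromSpecStalk (genericPoint X) :=
  IsOpenImmersion.lift_fac _ _ _

theorem ext_genLift [IsIntegral X] (g : X' ⟶ X) [IsSeparated g] {P : Scheme.{u}} (j : P ⟶ X)
    [IsOpenImmersion j] [Nonempty P] (a b : P ⟶ X') (ha : a ≫ g = j) (hb : b ≫ g = j)
    (h : genLift j ≫ a = genLift j ≫ b) : a = b := by
  haveI : IsIntegral P := isIntegral_of_isOpenImmersion j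
  haveI : IsDominant (genLift j) := by
    refine ⟨?_⟩
    have hgen : genericPoint P ∈ Set.range (genLift j) := by
      refine ⟨IsLocalRing.closedPoint X.functionField, j.isOpenEmbedding.injective ?_⟩
      rw [genericPoint_eq_of_isOpenImmersion j]
      show (genLift j ≫ j) _ = _
      rw [genLift_fac]
      exact Scheme.fromSpecStalk_closedPoint
    show Dense (Set.range (genLift j))
    exact Dense.mono (Set.singleton_subset_iff.mpr hgen) (dense_iff_closure_eq.mpr (genericPoint_spec P).def)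
  exact ext_of_isDominant_of_isSeparated g (ha.trans hb.symm) (genLift j) h

theorem exists_section_affine [IsIntegral X] (hX : Pi1.IsNormalScheme X) (g : X' ⟶ X) [IsIntegralHom g]
    (σ : Spec X.functionField ⟶ X') (hσ : σ ≫ g = X.fromSpecStalk (genericPoint X))
    {V : X.Opens} (hV : IsAffineOpen V) [hne : Nonempty V] :
    ∃ t : (V : Scheme.{u}) ⟶ X', t ≫ g = V.ι ∧ genLift V.ι ≫ t = σ := by
  have hW : IsAffineOpen (g ⁻¹ᵁ V) := hV.preimage g
  have hηV : genericPoint X ∈ V :=
    ((genericPoint_spec X).mem_open_set_iff V.2).mpr (by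
      obtain ⟨⟨x, hx⟩⟩ := hne
      exact ⟨x, trivial, hx⟩)
  have hrange : Set.range σ ⊆ Set.range hW.fromSpec := by
    rw [hW.range_fromSpec]
    rintro _ ⟨z, rfl⟩
    show (σ ≫ g) z ∈ V
    rw [hσ]
    have hy : X.fromSpecStalk (genericPoint X) z ⤳ genericPoint X := by
      have h1 : X.fromSpecStalk (genericPoint X) z ∈ Set.range (X.fromSpecStalk (genericPoint X)) := ⟨z, rfl⟩
      rwa [Scheme.range_fromSpecStalk] at h1
    exact hy.mem_open V.2 hηV
  obtain ⟨ψ, hψ⟩ : ∃ ψ : Γ(X', g ⁻¹ᵁ V) ⟶ X.functionField, Spec.map ψ ≫ hW.fromSpec = σ :=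
    ⟨Spec.preimage (IsOpenImmersion.lift hW.fromSpec σ hrange), by
      rw [Spec.map_preimage, IsOpenImmersion.lift_fac]⟩
  have hgerm : g.appLE V (g ⁻¹ᵁ V) le_rfl ≫ ψ = X.presheaf.germ V (genericPoint X) hηV := by
    apply Spec.map_injective
    rw [← cancel_mono hV.fromSpec, Spec.map_comp, Category.assoc,
      hV.SpecMap_appLE_fromSpec g hW le_rfl, reassoc_of% hψ, hσ]
    exact (hV.fromSpecStalk_eq_fromSpecStalk hηV).symm
  haveI := isIntegrallyClosed_section hX hV
  haveI : IsFractionRing Γ(X, V) X.functionField := functionField_isFractionRing_of_isAffineOpen X V hV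
  have hφ : ∀ b, ∃ a, algebraMap Γ(X, V) X.functionField a = ψ.hom b := by
    intro b
    refine IsIntegrallyClosed.algebraMap_eq_of_integral ?_
    have hint := IsIntegralHom.isIntegral_app g V hV b
    obtain ⟨q, hq, hqb⟩ := hint
    refine ⟨q, hq, ?_⟩
    have h2 := congrArg ψ.hom hqb
    rw [map_zero, Polynomial.hom_eval₂] at h2
    have happ : g.app V = g.appLE V (g ⁻¹ᵁ V) le_rfl := by simp [Scheme.Hom.appLE]
    have hcomp : algebraMap Γ(X, V) X.functionField = ψ.hom.comp (g.app V).hom := by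
      rw [happ, ← CommRingCat.hom_comp, hgerm]
      rfl
    rw [hcomp]
    exact h2
  choose r hr using hφ
  have hinj : Function.Injective (algebraMap Γ(X, V) X.functionField) := IsFractionRing.injective _ _
  let r' : Γ(X', g ⁻¹ᵁ V) →+* Γ(X, V) :=
    { toFun := r
      map_one' := hinj (by rw [hr, map_one, map_one])
      map_mul' := fun a b => hinj (by rw [hr, map_mul, map_mul, hr, hr])
      map_zero' := hinj (by rw [hr, map_zero, map_zero])
      map_add' := fun a b => hinj (by rw [hr, map_add, map_add, hr, hr]) }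
  have hr' : CommRingCat.ofHom r' ≫ X.presheaf.germ V (genericPoint X) hηV = ψ :=
    CommRingCat.hom_ext (RingHom.ext hr)
  have hid : g.appLE V (g ⁻¹ᵁ V) le_rfl ≫ CommRingCat.ofHom r' = 𝟙 _ := by
    refine CommRingCat.hom_ext (RingHom.ext fun a => hinj ?_)
    show algebraMap _ _ (r ((g.appLE V (g ⁻¹ᵁ V) le_rfl).hom a)) = algebraMap _ _ a
    rw [hr]
    exact DFunLike.congr_fun (congrArg CommRingCat.Hom.hom hgerm) a
  refine ⟨hV.isoSpec.hom ≫ Spec.map (CommRingCat.ofHom r') ≫ hW.fromSpec, ?_, ?_⟩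
  · rw [Category.assoc, Category.assoc, ← hV.SpecMap_appLE_fromSpec g hW le_rfl,
      ← Spec.map_comp_assoc, hid, Spec.map_id, Category.id_comp, IsAffineOpen.isoSpec_hom_fromSpec]
  · have h1 : genLift V.ι ≫ hV.isoSpec.hom = Spec.map (X.presheaf.germ V (genericPoint X) hηV) := by
      rw [← cancel_mono hV.fromSpec, Category.assoc, IsAffineOpen.isoSpec_hom_fromSpec, genLift_fac]
      exact (hV.fromSpecStalk_eq_fromSpecStalk hηV).symm
    rw [reassoc_of% h1, ← Spec.map_comp_assoc, hr', hψ]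

theorem exists_section [IsIntegral X] (hX : Pi1.IsNormalScheme X) (g : X' ⟶ X) [IsIntegralHom g]
    (U : X.Opens) (hU : Dense (U : Set X)) (s : (U : Scheme.{u}) ⟶ X') (hs : s ≫ g = U.ι) :
    ∃ s' : X ⟶ X', s' ≫ g = 𝟙 X ∧ U.ι ≫ s' = s := by
  haveI hUne : Nonempty U := by
    obtain ⟨y, hy⟩ := hU.nonempty
    exact ⟨⟨y, hy⟩⟩
  let σ : Spec X.functionField ⟶ X' := genLift U.ι ≫ s
  have hσ : σ ≫ g = X.fromSpecStalk (genericPoint X) := by
    rw [Category.assoc, hs, genLift_fac]
  choose V hV hxV _ using fun x : X =>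
    exists_isAffineOpen_mem_and_subset (U := (⊤ : X.Opens)) (x := x) trivial
  haveI hVne : ∀ x, Nonempty (V x) := fun x => ⟨⟨x, hxV x⟩⟩
  choose t ht1 ht2 using fun x : X => exists_section_affine hX g σ hσ (hV x)
  let 𝒰 : X.OpenCover := X.openCoverOfIsOpenCover V
    (eq_top_iff.mpr fun x _ => TopologicalSpace.Opens.mem_iSup.mpr ⟨x, hxV x⟩)
  have hcompat : ∀ x y : X, pullback.fst (V x).ι (V y).ι ≫ t x = pullback.snd (V x).ι (V y).ι ≫ t y := by
    intro x y
    haveI : Nonempty ↥(pullback (V x).ι (V y).ι) := by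
      obtain ⟨z, hz1, hz2⟩ := nonempty_preirreducible_inter (V x).2 (V y).2 ⟨x, hxV x⟩ ⟨y, hxV y⟩
      obtain ⟨w, -, -⟩ := Scheme.Pullback.exists_preimage_pullback (f := (V x).ι) (g := (V y).ι)
        ⟨z, hz1⟩ ⟨z, hz2⟩ rfl
      exact ⟨w⟩
    refine ext_genLift g (pullback.fst (V x).ι (V y).ι ≫ (V x).ι) _ _ (by rw [Category.assoc, ht1])
      (by rw [Category.assoc, ht1]; exact pullback.condition.symm) ?_
    have h1 : genLift (pullback.fst (V x).ι (V y).ι ≫ (V x).ι) ≫ pullback.fst (V x).ι (V y).ι = genLift (V x).ι := by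
      rw [← cancel_mono (V x).ι, Category.assoc, genLift_fac, genLift_fac]
    have h2 : genLift (pullback.fst (V x).ι (V y).ι ≫ (V x).ι) ≫ pullback.snd (V x).ι (V y).ι = genLift (V y).ι := by
      rw [← cancel_mono (V y).ι, Category.assoc, ← pullback.condition, genLift_fac, genLift_fac]
    rw [reassoc_of% h1, reassoc_of% h2, ht2, ht2]
  let s' : X ⟶ X' := 𝒰.glueMorphisms t hcompat
  have hι : ∀ x, (V x).ι ≫ s' = t x := fun x => 𝒰.ι_glueMorphisms t hcompat x
  have hsec : s' ≫ g = 𝟙 X := 𝒰.hom_ext _ _ fun x => by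
    show (V x).ι ≫ s' ≫ g = (V x).ι ≫ 𝟙 X
    rw [← Category.assoc, hι x, Category.comp_id]
    exact ht1 x
  refine ⟨s', hsec, ext_genLift g U.ι _ _ (by rw [Category.assoc, hsec, Category.comp_id]) hs ?_⟩
  show genLift U.ι ≫ U.ι ≫ s' = σ
  obtain ⟨x⟩ : Nonempty X := inferInstance
  rw [genLift_fac_assoc, ← genLift_fac (V x).ι, Category.assoc, hι, ht2]


theorem isIso_of_section [IsIntegral X] [IsIntegral X'] (g : X' ⟶ X) [IsIntegralHom g]
    (s : X ⟶ X') (hs : s ≫ g = 𝟙 X) : IsIso g := by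
  haveI : IsClosedImmersion (s ≫ g) := by rw [hs]; infer_instance
  haveI hcl : IsClosedImmersion s := IsClosedImmersion.of_comp s g
  have hgs : ∀ x, g (s x) = x := fun x => by
    rw [← Scheme.Hom.comp_apply, hs]; rfl
  have hgen : g (genericPoint X') = genericPoint X := by
    obtain ⟨z, hz⟩ : ∃ z, g z = genericPoint X := ⟨s (genericPoint X), hgs _⟩
    refine ((genericPoint_spec X).eq ?_).symm
    rw [isGenericPoint_def]
    refine Set.eq_univ_of_univ_subset ?_
    rw [← (genericPoint_spec X).def, ← hz]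
    refine closure_minimal (Set.singleton_subset_iff.mpr ?_) isClosed_closure
    exact (((genericPoint_spec X').specializes trivial).map g.continuous).mem_closure
  obtain ⟨V, hV, hηV, -⟩ := exists_isAffineOpen_mem_and_subset (U := (⊤ : X.Opens)) (x := genericPoint X) trivial
  have hW : IsAffineOpen (g ⁻¹ᵁ V) := hV.preimage g
  have hξ : genericPoint X' ∈ g ⁻¹ᵁ V := by show g _ ∈ V; rw [hgen]; exact hηV
  have hy : s (genericPoint X) ∈ g ⁻¹ᵁ V := by show g _ ∈ V; rw [hgs]; exact hηV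
  haveI : Nonempty V := ⟨⟨_, hηV⟩⟩
  haveI : Nonempty (g ⁻¹ᵁ V).toScheme := ⟨⟨_, hξ⟩⟩
  haveI : Nonempty ↥(g ⁻¹ᵁ V) := ⟨⟨_, hξ⟩⟩
  let φ := (g.appLE V (g ⁻¹ᵁ V) le_rfl).hom
  letI : Algebra Γ(X, V) Γ(X', g ⁻¹ᵁ V) := φ.toAlgebra
  haveI : Algebra.IsIntegral Γ(X, V) Γ(X', g ⁻¹ᵁ V) := ⟨by
    have := IsIntegralHom.isIntegral_app g V hV
    have happ : g.app V = g.appLE V (g ⁻¹ᵁ V) le_rfl := by simp [Scheme.Hom.appLE]
    rw [happ] at this
    exact this⟩
  have hbotX : ∀ h : genericPoint X ∈ V, (hV.primeIdealOf ⟨_, h⟩).asIdeal = ⊥ := fun h => by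
    rw [show hV.primeIdealOf ⟨_, h⟩ = genericPoint (Spec Γ(X, V)) from hV.primeIdealOf_genericPoint,
      genericPoint_eq_bot_of_affine]
    rfl
  have hQ : (hW.primeIdealOf ⟨_, hy⟩).asIdeal.comap (algebraMap Γ(X, V) Γ(X', g ⁻¹ᵁ V)) = ⊥ := by
    have h1 := IsAffineOpen.comap_primeIdealOf_appLE (f := g) V hV (g ⁻¹ᵁ V) hW le_rfl hy
    refine (congrArg PrimeSpectrum.asIdeal h1).trans ?_
    have key : ∀ (x : X) (h : x ∈ V), x = genericPoint X → (hV.primeIdealOf ⟨x, h⟩).asIdeal = ⊥ := by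
      rintro x h rfl; exact hbotX h
    exact key _ _ (hgs _)
  have hQbot : (hW.primeIdealOf ⟨_, hy⟩).asIdeal = ⊥ := Ideal.eq_bot_of_comap_eq_bot hQ
  have heq : s (genericPoint X) = genericPoint X' := by
    have h2 : hW.primeIdealOf ⟨_, hy⟩ = hW.primeIdealOf ⟨_, hξ⟩ := by
      refine PrimeSpectrum.ext (hQbot.trans ?_)
      rw [show hW.primeIdealOf ⟨_, hξ⟩ = genericPoint (Spec Γ(X', g ⁻¹ᵁ V)) from hW.primeIdealOf_genericPoint,
        genericPoint_eq_bot_of_affine]
      rfl
    have := congrArg (fun p => hW.fromSpec p) h2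
    simpa only [IsAffineOpen.fromSpec_primeIdealOf] using this
  haveI : Surjective s := ⟨fun x => by
    have hcl' : IsClosed (Set.range s) := s.isClosedEmbedding.isClosed_range
    have : closure {genericPoint X'} ⊆ Set.range s :=
      hcl'.closure_subset_iff.mpr (Set.singleton_subset_iff.mpr ⟨_, heq⟩)
    rw [(genericPoint_spec X').def] at this
    exact this trivial⟩
  haveI : IsIso s := isIso_of_isClosedImmersion_of_surjective s
  exact IsIso.of_isIso_fac_left hs

end Groth.Agent.NormalSect
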